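import Cfsg.Agent.H39.Fi22Invol.Checks.HexB
import Cfsg.Agent.H39.Fi22Invol.Data.Chains
import Cfsg.Agent.H39.Fi22Invol.Data.Hex
import Cfsg.Agent.H39.Fi22Invol.Data.Nodes
import Cfsg.Agent.H39.Fi22Invol.Data.Tree

/-!
Kernel checks of the hexads and of the search tree for involutions of the base of 22.
-/

set_option autoImplicit false
set_option maxRecDepth 100000

namespace Cfsg.Agent.H39.Fi22Invol

open Cfsg.Agent.H45 Cfsg.Agent.H46.Fi22Out

/-- the hexad of an index -/
def hexN (h : ℕ) : ℕ := Data.hexs.getD h 0

/-- the points of the base adjacent to a point -/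
noncomputable def patt (x : ℕ) : ℕ :=
  (List.range 22).foldr (fun i A => bif bget (Data.hexM.getD i 0) x then A ||| (1 <<< i) else A) 0

/-- the permutation of the base by a listed element -/
def gp (k i : ℕ) : ℕ := (Data.gPerm.getD k []).getD i 0

/-- the permutation of the base by an outer involution -/
def outP (j i : ℕ) : ℕ := (Data.outPerm.getD j []).getD i 0

/-- a pair of the partial permutation -/
def hasP (d : List (ℕ × ℕ)) (a b : ℕ) : Bool := d.any fun e => Nat.beq e.1 a && Nat.beq e.2 b

/-- a point of the domain -/
def inDom (d : List (ℕ × ℕ)) (a : ℕ) : Bool := d.any fun e => Nat.beq e.1 a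

/-- one constraint is justified -/
def consOK (d : List (ℕ × ℕ)) : ℕ × ℕ × ℕ × ℕ × ℕ → Bool
  | (h, h', p, q, r) =>
    Nat.blt h 77 && Nat.blt h' 77 && !Nat.beq p q && !Nat.beq p r && !Nat.beq q r &&
      (hexN h).testBit p && (hexN h).testBit q && (hexN h).testBit r &&
      inDom d p && inDom d q && inDom d r &&
      d.all fun e => !(Nat.beq e.1 p || Nat.beq e.1 q || Nat.beq e.1 r) || (hexN h').testBit e.2

/-- a possible image -/
def cand22 (cons : List (ℕ × ℕ × ℕ × ℕ × ℕ)) (d : List (ℕ × ℕ)) (x w : ℕ) : Bool :=
  (d.all fun e => !Nat.beq e.2 w) &&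
    cons.all fun c => (hexN c.1).testBit x == (hexN c.2.1).testBit w

/-- the image along a path -/
def gpath (gens : List ℕ) : List ℕ → ℕ → ℕ
  | [], x => x
  | i :: r, x => gpath gens r (bif Nat.blt i gens.length then gp (gens.getD i 0) x else x)

/-- the images reached by the kids -/
def PTr.reach (gens : List ℕ) : PTr → List ℕ
  | .kid w paths _ next => (paths.map fun p => gpath gens p w) ++ PTr.reach gens next
  | _ => []

/-- a tree which is not a list of kids -/
def PTr.main : PTr → Bool
  | .inner _ => true
  | .outer _ _ => true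
  | .node _ _ _ _ => true
  | _ => false

/-- the check of a tree -/
noncomputable def ptchk : PTr → List (ℕ × ℕ) → List ℕ → ℕ → Bool
  | .inner k, d, _, _ =>
    Nat.blt k Data.gPerm.length && ((List.range 22).all fun i => inDom d i) &&
      d.all fun e => Nat.beq (gp k e.1) e.2
  | .outer j k, d, _, _ =>
    Nat.blt j 2 && Nat.blt k Data.gPerm.length && ((List.range 22).all fun i => inDom d i) &&
      d.all fun e => Nat.beq (outP j (gp k e.1)) (gp k e.2)
  | .node x cons gens kids, d, _, _ =>
    Nat.blt x 22 && !inDom d x &&
      (gens.all fun g => Nat.blt g Data.gPerm.length && Nat.beq (gp g x) x &&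
        d.all fun e => hasP d (gp g e.1) (gp g e.2)) &&
      cons.all (consOK d) &&
      coverB 22 (cand22 cons d x) (kids.reach gens) && ptchk kids d gens x
  | .kid w _ sub next, d, gens, x =>
    sub.main && Nat.blt w 22 && ptchk sub ((x, w) :: (w, x) :: d) [] 0 && ptchk next d gens x
  | .nil, _, _, _ => true

theorem hex_all : force (mask (Data.b0W.map pt)) (fun B => allLt (fun x =>
    bget B x || Nat.beq (patt x) 0 || Data.hexs.any (fun h => Nat.beq h (patt x))) 3510) = true := by
  decide +kernel

theorem hex_each : ((List.range 77).all fun h =>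
    ltW (Data.hexW.getD h []) && Nat.beq (patt (pt (Data.hexW.getD h []))) (hexN h) &&
      !Nat.beq (hexN h) 0 && Nat.blt (hexN h) (2 ^ 22) &&
      Data.b0W.all (fun b => !Nat.beq (pt b) (pt (Data.hexW.getD h [])))) = true := by decide +kernel

theorem hex_len : Data.hexs.length = 77 := by decide +kernel

theorem hex_meet : ((List.range 77).all fun h => (List.range 77).all fun h' => Nat.beq h h' ||
    Nat.blt ((List.range 22).filter fun i => (hexN h).testBit i && (hexN h').testBit i).length 3) = true := by
  decide +kernel

theorem b0_facts : ((Data.b0W.all ltW) && Nat.beq Data.b0W.length 22) = true ∧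
    (Data.b0W.map pt).Nodup := by decide +kernel

theorem gw_ok : ((List.range Data.gPerm.length).all fun k =>
    (Data.gWords.getD k []).all ltW && (List.range 22).all fun i =>
      Nat.blt (gp k i) 22 &&
        Nat.beq (wk (pW (Data.gWords.getD k [])) (pt (Data.b0W.getD i [])))
          (pt (Data.b0W.getD (gp k i) []))) = true := by decide +kernel

theorem ptree_ok : ptchk Data.ptree [] [] 0 = true := by decide +kernel

theorem ptree_main : Data.ptree.main = true := by decide +kernel

end Cfsg.Agent.H39.Fi22Invol
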