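import Cfsg.Agent.H39.Fi22Invol.Checks.Defs

/-!
Kernel checks of chains.
-/

set_option autoImplicit false
set_option maxRecDepth 100000

namespace Cfsg.Agent.H39.Fi22Invol

open Cfsg.Agent.H45 Cfsg.Agent.H46.Fi22Out

theorem kA_gens : gensFrom (fun us => decide (us = [Data.ua])) Data.chKA = true := by decide +kernel

theorem kA_ok : chainOK sigN RKA Data.chKA Data.f1W = true := by decide +kernel

theorem gensB_facts : (gensB.all (allFix sabN) && gensFrom (fun us => gensB.any fun v => decide (v = us)) Data.chB) = true := by
  decide +kernel

theorem chB_ok : chainOK sabN (fun b x => !isF sabN b || isF sabN x) Data.chB [] = true := by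
  decide +kernel

theorem kB_ok : chainOK sabN RKB Data.chKB [] = true := by decide +kernel

end Cfsg.Agent.H39.Fi22Invol
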