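import Cfsg.Agent.H39.Fi22Invol.Checks.Defs

/-!
Kernel checks of chains.
-/

set_option autoImplicit false
set_option maxRecDepth 100000

namespace Cfsg.Agent.H39.Fi22Invol

open Cfsg.Agent.H45 Cfsg.Agent.H46.Fi22Out

theorem chA_gens : gensFrom (allFix sigN) Data.chA = true := by decide +kernel

theorem chA_ok : chainOK sigN (fun b x => !isF sigN b || isF sigN x) Data.chA [] = true := by
  decide +kernel

end Cfsg.Agent.H39.Fi22Invol
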