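import Cfsg.Agent.H39.Fi22Invol.Autos
import Cfsg.Agent.H39.Fi22Invol.Data.Chains
import Cfsg.Agent.H39.Fi22Invol.Data.Gens

/-!
Definitions used by the kernel checks of the centraliser chains.
-/

set_option autoImplicit false
set_option maxRecDepth 100000

namespace Cfsg.Agent.H39.Fi22Invol

open Cfsg.Agent.H45 Cfsg.Agent.H46.Fi22Out

/-- the generators of the chain are products from a list -/
def gensFrom (ok : List (List ℕ) → Bool) (ls : List Lvl) : Bool :=
  ls.all fun lv => lv.gens.all fun g => decide (g.us = []) || ok g.us

/-- the members of a product are in the table of fixed points of a map -/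
noncomputable def allFix (f : ℕ → ℕ) (us : List (List ℕ)) : Bool :=
  us.all fun u => ltW u && Nat.beq (f (pt u)) (pt u)

/-- fixed by a map -/
noncomputable def isF (f : ℕ → ℕ) (x : ℕ) : Bool := Nat.beq (f x) x

/-- the generators for the second -/
def gensA : List (List (List ℕ)) := Data.genOne.map fun t => t.1

/-- the relation for the second -/
noncomputable def RA (b x : ℕ) : Bool :=
  (!Nat.beq b (pt Data.ua) || Nat.beq x (pt Data.ua)) && (!isF sigN b || isF sigN x)

/-- the relation for the kernel -/
noncomputable def RKA (b x : ℕ) : Bool :=
  (!isF saN b || !isF sigN b || Nat.beq x b) && (!isF sigN b || isF sigN x)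

/-- the generators for the third -/
def gensB : List (List (List ℕ)) := Data.genTwo.map fun t => t.1

/-- the vector of a point fixed by the third -/
noncomputable def v2 (x : ℕ) : ℕ := cget Data.vecTwo x

/-- the relation for the kernel -/
noncomputable def RKB (b x : ℕ) : Bool := !isF sabN b || (isF sabN x && Nat.beq (v2 x) (v2 b))

end Cfsg.Agent.H39.Fi22Invol
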