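import Cfsg.Agent.H39.Fi22Invol.Autos
import Cfsg.Agent.H39.Fi22Invol.Mk
import Cfsg.Agent.H39.Fi22Invol.Data.Chains
import Cfsg.Agent.H39.Fi22Invol.Data.Nodes
import Cfsg.Agent.H39.Fi22Invol.Data.Elem

/-!
Kernel checks for the elementary group of the base of 22 and for the representatives.
-/

set_option autoImplicit false
set_option maxRecDepth 100000

namespace Cfsg.Agent.H39.Fi22Invol

open Cfsg.Agent.H45 Cfsg.Agent.H46.Fi22Out

/-- the words of the basis -/
def basisW : List (List (List ℕ)) := Data.basisIx.map fun i => [Data.b0W.getD i []]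

/-- the two involutions normalising the base, on the points -/
noncomputable def tauN : ℕ → ℕ → ℕ
  | 0, x => sigN x
  | _, x => wk (pW Data.moveW) (sabN (wk (pW Data.moveW.reverse) x))

/-- the three representatives on the points -/
noncomputable def repN : ℕ → ℕ → ℕ
  | 0, x => sigN x
  | 1, x => saN x
  | _, x => sabN x

/-- the action on coordinates -/
def Lc (j : ℕ) : ℕ → ℕ → ℕ
  | 0, _ => 0
  | i + 1, c =>
    (bif c.testBit i then
      Data.codes.getD ((Data.outPerm.getD j []).getD (Data.basisIx.getD i 0) 0) 0 else 0) ^^^ Lc j i c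

/-- the points of the letters -/
noncomputable def letPts : List ℕ := (List.range 9).map fun l => pt (Data.cu.getD l [])

theorem chE_gens : (Data.chE.all fun lv => lv.gens.all fun g =>
    !g.flip && g.us.all fun u => Data.b0W.any fun b => decide (b = u)) = true := by decide +kernel

theorem chE_ok : chainOK (fun x => x) (fun _ _ => true) Data.chE Data.b0W = true := by decide +kernel

theorem b0_comm : (Data.b0W.all fun u => Data.b0W.all fun v => adjb u (pt v)) = true := by
  decide +kernel

theorem basis_ok : (Nat.beq Data.basisIx.length 10 && (Data.basisIx.all fun i => Nat.blt i 22) &&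
    Data.moveW.all ltW) = true := by decide +kernel

theorem codes_ok : ((List.range 22).all fun i => Nat.blt (Data.codes.getD i 0) (2 ^ 10) &&
    letPts.all fun x =>
      Nat.beq (wk (pW (wordC basisW 10 (Data.codes.getD i 0))) x) (wk (conjW (Data.b0W.getD i [])) x)) = true := by
  decide +kernel

theorem tau_perm : ((List.range 2).all fun j => (List.range 22).all fun i =>
    Nat.blt ((Data.outPerm.getD j []).getD i 0) 22 &&
      Nat.beq (tauN j (pt (Data.b0W.getD i []))) (pt (Data.b0W.getD ((Data.outPerm.getD j []).getD i 0) []))) = true := by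
  decide +kernel

theorem defect_cover : ((List.range 2).all fun j => allLt (fun c =>
    force (c ^^^ Lc j 10 c) fun d => Nat.beq d 0 || (Data.defects.getD j []).any fun e => Nat.beq d e) 1024) = true := by
  decide +kernel

theorem defect_moves : ((List.range 2).all fun j => (Data.defects.getD j []).all fun d =>
    letPts.any fun x => !Nat.beq (wk (pW (wordC basisW 10 d)) x) x) = true := by decide +kernel

theorem red_cover : ((List.range 2).all fun j =>
    coverB 1024 (fun c => Nat.beq (Lc j 10 c) c) ((Data.redTab.getD j []).map fun t => t.1)) = true := by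
  decide +kernel

theorem red_ok : ((List.range 2).all fun j => (Data.redTab.getD j []).all fun t =>
    Nat.blt t.2.2 (Data.repTab.getD j []).length && Nat.blt t.2.1 1024 &&
      Nat.beq t.1 (((Data.repTab.getD j []).getD t.2.2 (0, 0, [])).1 ^^^ t.2.1 ^^^ Lc j 10 t.2.1)) = true := by
  decide +kernel

theorem wit_ok : ((List.range 2).all fun j => (Data.repTab.getD j []).all fun t =>
    t.2.2.all ltW && Nat.blt t.2.1 3 && letPts.all fun x =>
      Nat.beq (wk (pW t.2.2) (wk (pW (wordC basisW 10 t.1)) (tauN j x))) (repN t.2.1 (wk (pW t.2.2) x))) = true := by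
  decide +kernel

end Cfsg.Agent.H39.Fi22Invol
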