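import Cfsg.Agent.H39.Fi22Invol.Chain
import Cfsg.Agent.H39.Fi22Invol.Data.Chains
import Cfsg.Agent.H39.Fi22Invol.Data.Hex

/-!
Kernel checks of the adjacency masks of the base of 22.
-/

set_option autoImplicit false
set_option maxRecDepth 100000

namespace Cfsg.Agent.H39.Fi22Invol

open Cfsg.Agent.H45 Cfsg.Agent.H46.Fi22Out

/-- a row of the adjacency masks agrees with the table -/
noncomputable def hexRow (i : ℕ) : Bool :=
  force (Data.hexM.getD i 0) fun m => allLt (fun x =>
    force (wk (Data.b0W.getD i []).reverse x) fun y => bget m x == Nat.beq (cget (cols.getD 0 0) y) y) 3510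

theorem hexM_low : ((List.range 11).all hexRow) = true := by decide +kernel

end Cfsg.Agent.H39.Fi22Invol
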