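import Cfsg.Agent.H39.Fi22Invol.Chain
import Cfsg.Agent.H39.Fi22Invol.Data.Chains
import Cfsg.Agent.H39.Fi22Invol.Data.Hex
import Cfsg.Agent.H39.Fi22Invol.Checks.HexA

/-!
Kernel checks of the adjacency masks of the base of 22.
-/

set_option autoImplicit false
set_option maxRecDepth 100000

namespace Cfsg.Agent.H39.Fi22Invol

open Cfsg.Agent.H45 Cfsg.Agent.H46.Fi22Out

theorem hexM_high : ((List.range 11).all fun i => hexRow (11 + i)) = true := by decide +kernel

end Cfsg.Agent.H39.Fi22Invol
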