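import Cfsg.Agent.H39.Fi22Invol.Checks.LinesAdj
import Cfsg.Agent.H39.Fi22Invol.Data.Chains
import Cfsg.Agent.H39.Fi22Invol.Data.Lines

/-!
Kernel checks of the lines through a pair of commuting members.
-/

set_option autoImplicit false
set_option maxRecDepth 100000

namespace Cfsg.Agent.H39.Fi22Invol

open Cfsg.Agent.H45 Cfsg.Agent.H46.Fi22Out

theorem com_cover : coverB 3510 inCom (Data.comW.map pt) = true := by decide +kernel

theorem com_each : (Data.comW.all fun u => ltW u && inCom (pt u)) = true := by decide +kernel

theorem com_len : Data.comW.length = 180 := by decide +kernel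

theorem com_nodup : (Data.comW.map pt).Nodup := by decide +kernel

theorem pair_ok : ((List.range 180).all fun i => (List.range 180).all fun j =>
    Nat.beq i j || !(adjRow i).testBit j ||
      force (adjRow i &&& adjRow j) fun L =>
        (Data.lines.any fun t => Nat.beq t.1 L) ||
          (List.range 180).any fun u => L.testBit u && !Nat.beq (L &&& adjRow u) L) = true := by
  decide +kernel

theorem line_ok : (Data.lines.all fun t =>
    Nat.blt t.1 (2 ^ 180) && Nat.blt t.2.1 180 && Nat.blt t.2.2.1 180 && !Nat.beq t.2.1 t.2.2.1 &&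
      (adjRow t.2.1).testBit t.2.2.1 && Nat.beq (adjRow t.2.1 &&& adjRow t.2.2.1) t.1 &&
      ((List.range 180).all fun u => !t.1.testBit u || Nat.beq (t.1 &&& adjRow u) t.1) &&
      t.2.2.2.all ltW) = true := by decide +kernel

theorem line_move : (Data.lines.all fun t =>
    ((linePts t.1).all fun s => Data.b0W.any fun b => Nat.beq (wk (pW t.2.2.2) s) (pt b)) &&
      (Data.b0W.all fun b => (linePts t.1).any fun s => Nat.beq (wk (pW t.2.2.2) s) (pt b))) = true := by
  decide +kernel

theorem lines_count : (Data.lines.map fun t => t.1).Nodup ∧ Data.lines.length = 27 := by decide +kernel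

theorem pair_ne : Nat.beq (pt (Data.cu.getD 2 [])) 0 = false ∧ adjb [] (pt (Data.cu.getD 2 [])) = true := by
  decide +kernel

end Cfsg.Agent.H39.Fi22Invol
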