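import Cfsg.Agent.H39.Fi22Invol.Chain
import Cfsg.Agent.H39.Fi22Invol.Data.Chains
import Cfsg.Agent.H39.Fi22Invol.Data.Lines

/-!
Kernel check of the adjacency among the common neighbours.
-/

set_option autoImplicit false
set_option maxRecDepth 100000

namespace Cfsg.Agent.H39.Fi22Invol

open Cfsg.Agent.H45 Cfsg.Agent.H46.Fi22Out

/-- adjacent to both points of the pair, and different from them -/
noncomputable def inCom (x : ℕ) : Bool :=
  !Nat.beq x 0 && !Nat.beq x (pt (Data.cu.getD 2 [])) && adjb [] x && adjb (Data.cu.getD 2 []) x

/-- the adjacency row -/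
def adjRow (i : ℕ) : ℕ := Data.adjM.getD i 0

/-- the points of a line with the pair -/
noncomputable def linePts (m : ℕ) : List ℕ :=
  0 :: pt (Data.cu.getD 2 []) ::
    ((List.range 180).filter fun i => m.testBit i).map fun i => pt (Data.comW.getD i [])

theorem com_adj : ((List.range 180).all fun i => force (adjRow i) fun m =>
    (List.range 180).all fun j =>
      adjb (Data.comW.getD i []) (pt (Data.comW.getD j [])) == m.testBit j) = true := by decide +kernel

end Cfsg.Agent.H39.Fi22Invol
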